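import Cfsg.Agent.Spor.ThS5.D0

set_option autoImplicit false
set_option maxRecDepth 100000000
set_option Elab.async false

namespace Cfsg.Agent.Spor.ThS5

theorem pr2 : Nat.beq (PA.prod ThV.A [ThV.gb, ThV.gu, ThV.gb, ThV.gd, ThV.gc, ThV.gb, ThV.iu, ThV.gb, ThV.gu, ThV.gd, ThV.gc] ThV.A.one) m1 = true := by decide +kernel

theorem iv5 : band (PA.can ThV.A m4) (Nat.beq (PA.mul ThV.A m1 m4) ThV.A.one) = true := by decide +kernel

theorem pr8 : Nat.beq (PA.prod ThV.A [ThV.ge, ThV.gs, ThV.gu, ThV.gd, ThV.ge, ThV.is, ThV.ge, ThV.gd, ThV.gu, ThV.it, ThV.gd] ThV.A.one) m7 = true := by decide +kernel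

theorem pr11 : Nat.beq (PA.prod ThV.A [m7, ThV.gs, ThV.gu] ThV.A.one) m10 = true := by decide +kernel

theorem pr14 : Nat.beq (PA.prod ThV.A [m4, m10, m1] ThV.A.one) m13 = true := by decide +kernel

theorem pr17 : Nat.beq (PA.prod ThV.A [ThV.gs, ThV.iu, ThV.gd, ThV.gu, ThV.gs, ThV.it, ThV.ge, ThV.is, ThV.gu, ThV.gd, ThV.gu] ThV.A.one) m16 = true := by decide +kernel

theorem iv20 : band (PA.can ThV.A m19) (Nat.beq (PA.mul ThV.A m16 m19) ThV.A.one) = true := by decide +kernel

theorem pr23 : Nat.beq (PA.prod ThV.A [m19, m13, m16] ThV.A.one) m22 = true := by decide +kernel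

theorem iv26 : band (PA.can ThV.A m25) (Nat.beq (PA.mul ThV.A m13 m25) ThV.A.one) = true := by decide +kernel

theorem iv29 : band (PA.can ThV.A m28) (Nat.beq (PA.mul ThV.A m22 m28) ThV.A.one) = true := by decide +kernel

theorem pr32 : Nat.beq (PA.prod ThV.A [m25, m28, m13, m22] ThV.A.one) m31 = true := by decide +kernel

theorem T5ok : PA.gensOk ThV.A T5 3 = true := by decide +kernel

theorem pp35 : PA.pcP ThV.A T5 0 5 [] = true := by decide +kernel

theorem pa36 : PA.pcA' ThV.A T5 ThV.gb 0 = true := by decide +kernel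

theorem pc37 : PA.pcC ThV.A T5 1 0 [0] = true := by decide +kernel

theorem pp38 : PA.pcP ThV.A T5 1 5 [] = true := by decide +kernel

theorem pa39 : PA.pcA' ThV.A T5 m22 1 = true := by decide +kernel

theorem pa40 : PA.pcA ThV.A T5 m22 0 = true := by decide +kernel

theorem pc41 : PA.pcC ThV.A T5 2 0 [0] = true := by decide +kernel

theorem pc42 : PA.pcC ThV.A T5 2 1 [1, 2] = true := by decide +kernel

theorem pp43 : PA.pcP ThV.A T5 2 5 [] = true := by decide +kernel

theorem pa44 : PA.pcA' ThV.A T5 m13 2 = true := by decide +kernel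

theorem pa45 : PA.pcA ThV.A T5 m13 0 = true := by decide +kernel

theorem pa46 : PA.pcA ThV.A T5 m13 1 = true := by decide +kernel

theorem w47 : PA.isW ThV.A ThV.TT [14, 6, 11, 14, 6] g5 = true := by decide +kernel

theorem o5 : band (Nat.beq (PA.pw ThV.A g5 5) ThV.A.one) (PA.neq ThV.A g5 ThV.A.one) = true := by decide +kernel

theorem w49 : PA.isW ThV.A ThV.TT [14, 2, 10, 8, 6] g19 = true := by decide +kernel

theorem o19 : band (Nat.beq (PA.pw ThV.A g19 4) m51) (PA.neq ThV.A g19 ThV.A.one) = true := by decide +kernel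

theorem oo19 : Nat.beq (PA.mul ThV.A (PA.pw ThV.A m51 4) (PA.pw ThV.A g19 3)) ThV.A.one = true := by decide +kernel

theorem w52 : PA.isW ThV.A ThV.TT [2, 15, 10, 8, 0, 6] g31 = true := by decide +kernel

end Cfsg.Agent.Spor.ThS5
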