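import Cfsg.Agent.Spor.ThS5.D0

set_option autoImplicit false
set_option maxRecDepth 100000000
set_option Elab.async false

namespace Cfsg.Agent.Spor.ThS5

theorem o31 : band (Nat.beq (PA.pw ThV.A g31 6) m54) (PA.neq ThV.A g31 ThV.A.one) = true := by decide +kernel

theorem oo31 : Nat.beq (PA.mul ThV.A (PA.pw ThV.A m54 5) (PA.pw ThV.A g31 1)) ThV.A.one = true := by decide +kernel

theorem neL : PA.neq ThV.A (PA.evw ThV.A ThV.TT [0] ThV.A.one) ThV.A.one = true := by decide +kernel

end Cfsg.Agent.Spor.ThS5
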