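import Cfsg.Agent.Spor.ThV.Main
import Cfsg.Agent.Spor.ThL.Grp
import Cfsg.Agent.Spor.ThS5.C0
import Cfsg.Agent.Spor.ThS5.C1

set_option autoImplicit false
set_option maxRecDepth 100000000
set_option Elab.async false

namespace Cfsg.Agent.Spor.ThS5

theorem hM3 : ThV.X.M m1 := MRep.M.of_prod (L := [ThV.gb, ThV.gu, ThV.gb, ThV.gd, ThV.gc, ThV.gb, ThV.iu, ThV.gb, ThV.gu, ThV.gd, ThV.gc]) (AllP.cons (ThV.gens 3).1 (AllP.cons (ThV.gens 14).1 (AllP.cons (ThV.gens 3).1 (AllP.cons (ThV.gens 7).1 (AllP.cons (ThV.gens 5).1 (AllP.cons (ThV.gens 3).1 (AllP.cons (ThV.gens 15).1 (AllP.cons (ThV.gens 3).1 (AllP.cons (ThV.gens 14).1 (AllP.cons (ThV.gens 7).1 (AllP.cons (ThV.gens 5).1 (AllP.nil)))))))))))) pr2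
theorem hM6 : ThV.X.M m4 := (MRep.M.inv hM3 iv5).1
theorem hM9 : ThV.X.M m7 := MRep.M.of_prod (L := [ThV.ge, ThV.gs, ThV.gu, ThV.gd, ThV.ge, ThV.is, ThV.ge, ThV.gd, ThV.gu, ThV.it, ThV.gd]) (AllP.cons (ThV.gens 9).1 (AllP.cons (ThV.gens 10).1 (AllP.cons (ThV.gens 14).1 (AllP.cons (ThV.gens 7).1 (AllP.cons (ThV.gens 9).1 (AllP.cons (ThV.gens 11).1 (AllP.cons (ThV.gens 9).1 (AllP.cons (ThV.gens 7).1 (AllP.cons (ThV.gens 14).1 (AllP.cons (ThV.gens 13).1 (AllP.cons (ThV.gens 7).1 (AllP.nil)))))))))))) pr8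
theorem hM12 : ThV.X.M m10 := MRep.M.of_prod (L := [m7, ThV.gs, ThV.gu]) (AllP.cons hM9 (AllP.cons (ThV.gens 10).1 (AllP.cons (ThV.gens 14).1 (AllP.nil)))) pr11
theorem hM15 : ThV.X.M m13 := MRep.M.of_prod (L := [m4, m10, m1]) (AllP.cons hM6 (AllP.cons hM12 (AllP.cons hM3 (AllP.nil)))) pr14
theorem hM18 : ThV.X.M m16 := MRep.M.of_prod (L := [ThV.gs, ThV.iu, ThV.gd, ThV.gu, ThV.gs, ThV.it, ThV.ge, ThV.is, ThV.gu, ThV.gd, ThV.gu]) (AllP.cons (ThV.gens 10).1 (AllP.cons (ThV.gens 15).1 (AllP.cons (ThV.gens 7).1 (AllP.cons (ThV.gens 14).1 (AllP.cons (ThV.gens 10).1 (AllP.cons (ThV.gens 13).1 (AllP.cons (ThV.gens 9).1 (AllP.cons (ThV.gens 11).1 (AllP.cons (ThV.gens 14).1 (AllP.cons (ThV.gens 7).1 (AllP.cons (ThV.gens 14).1 (AllP.nil)))))))))))) pr17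
theorem hM21 : ThV.X.M m19 := (MRep.M.inv hM18 iv20).1
theorem hM24 : ThV.X.M m22 := MRep.M.of_prod (L := [m19, m13, m16]) (AllP.cons hM21 (AllP.cons hM15 (AllP.cons hM18 (AllP.nil)))) pr23
theorem hM27 : ThV.X.M m25 := (MRep.M.inv hM15 iv26).1
theorem hM30 : ThV.X.M m28 := (MRep.M.inv hM24 iv29).1
theorem hM33 : ThV.X.M m31 := MRep.M.of_prod (L := [m25, m28, m13, m22]) (AllP.cons hM27 (AllP.cons hM30 (AllP.cons hM15 (AllP.cons hM24 (AllP.nil))))) pr32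
theorem gT5 : ThV.X.Gens T5 (atm 3 (ThV.X.gen T5)) :=
  MRep.Gens.of_M T5ok (MRep.allM (L := [m31, m13, m22]) (AllP.cons hM33 (AllP.cons hM15 (AllP.cons hM24 (AllP.nil)))) rfl)
theorem T5pc1 : PC (ThV.X.gen T5) 1 5 :=
  gT5.pc (p := 5) (PC.zero _) (by decide) (by norm_num)
    (show AllP (fun j => ∃ w, PA.pcC ThV.A T5 0 j w = true) [] from AllP.nil) pp35
    (gT5.notA (by decide) (PC.zero _) pa36 (show AllP (fun j => PA.pcA ThV.A T5 ThV.gb j = true) [] from AllP.nil))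
theorem T5pc2 : PC (ThV.X.gen T5) 2 25 :=
  gT5.pc (p := 5) T5pc1 (by decide) (by norm_num)
    (show AllP (fun j => ∃ w, PA.pcC ThV.A T5 1 j w = true) [0] from AllP.cons ⟨_, pc37⟩ (AllP.nil)) pp38
    (gT5.notA (by decide) T5pc1 pa39 (show AllP (fun j => PA.pcA ThV.A T5 m22 j = true) [0] from AllP.cons pa40 (AllP.nil)))
theorem T5pc3 : PC (ThV.X.gen T5) 3 125 :=
  gT5.pc (p := 5) T5pc2 (by decide) (by norm_num)
    (show AllP (fun j => ∃ w, PA.pcC ThV.A T5 2 j w = true) [0, 1] from AllP.cons ⟨_, pc41⟩ (AllP.cons ⟨_, pc42⟩ (AllP.nil))) pp43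
    (gT5.notA (by decide) T5pc2 pa44 (show AllP (fun j => PA.pcA ThV.A T5 m13 j = true) [0, 1] from AllP.cons pa45 (AllP.cons pa46 (AllP.nil))))
theorem hM48 : ThV.X.M g5 := (ThV.gens.isW w47).1
theorem ord5 : orderOf (ev (atm 8 ThV.h) [14, 6, 11, 14, 6]) = 5 :=
  (ThV.gens.isW w47).2 ▸ (ThV.gens.isW w47).1.ord (by norm_num) o5
theorem hM50 : ThV.X.M g19 := (ThV.gens.isW w49).1
theorem ord19 : orderOf (ev (atm 8 ThV.h) [14, 2, 10, 8, 6]) = 19 :=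
  (ThV.gens.isW w49).2 ▸ (ThV.gens.isW w49).1.ord2 (by norm_num) (a := 4) (b := 4) (c := 3) rfl o19 oo19
theorem hM53 : ThV.X.M g31 := (ThV.gens.isW w52).1
theorem ord31 : orderOf (ev (atm 8 ThV.h) [2, 15, 10, 8, 0, 6]) = 31 :=
  (ThV.gens.isW w52).2 ▸ (ThV.gens.isW w52).1.ord2 (by norm_num) (a := 6) (b := 5) (c := 1) rfl o31 oo31
theorem lb : 125 ∣ Nat.card ThV.H := T5pc3.dvd
theorem presL : Pres 6 0 ThL.RL ThV.h := ThV.pres.restrict (H := [([], 0, true), ([], 1, true), ([], 2, true), ([], 3, true), ([], 4, true), ([], 5, true), ([], 6, true), ([], 7, true), ([], 8, true), ([], 9, true), ([], 10, true), ([], 11, true), ([], 12, true), ([], 13, true), ([], 14, true), ([], 15, true), ([], 16, true), ([], 17, true), ([], 18, true), ([], 19, true)]) (by decide +kernel)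
theorem isoL : Nonempty (ThL.P ≃* gsub 6 ThV.h) := by
  obtain ⟨e, -⟩ := iso_of_simple ThL.bound (by norm_num) ThL.cert.pres presL ThL.lbP ThL.simpleP
    (w := [0]) (by rw [← ev_atm_lt (N := 8) (by decide) _ (by decide)]; exact ThV.gens.ne_one neL)
  exact ⟨e⟩

end Cfsg.Agent.Spor.ThS5
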